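import Groth.Agent.Lib.SymGr.Basic
import Groth.Agent.Lib.AdicFS.Kaehler
import Mathlib.RingTheory.Smooth.Basic

/-!
# Adic formal smoothness with formally smooth quotient

If `B/J` is formally smooth over `A`, then `B` is `J`-adically formally smooth over `A` if and only if
`J/J²` is projective over `B/J` and `Sym^n(J/J²) → J^n/J^(n+1)` is bijective for all `n ≥ 1`.
-/

set_option autoImplicit false
universe u

namespace GrothLib.SymGr

open MvPolynomial GrothLib.PrincipalParts

variable {A B : Type u} [CommRing A] [CommRing B] [Algebra A B] (J : Ideal B)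
  [Algebra.FormallySmooth A (B ⧸ J)]

/-- A derivation `B → J/J²` restricting to the class map on `J`. -/
theorem exists_retraction_derivation :
    ∃ δ : Derivation A B J.Cotangent, ∀ x : ↥J, δ (x : B) = J.toCotangent x := by
  let K := J ^ 2
  let π : (B ⧸ K) →ₐ[A] B ⧸ J := Ideal.Quotient.factorₐ A (Ideal.pow_le_self two_ne_zero)
  have hπ : Function.Surjective π := fun x => by
    obtain ⟨f, rfl⟩ := Ideal.Quotient.mk_surjective x
    exact ⟨Ideal.Quotient.mk _ f, rfl⟩
  have hker : RingHom.ker π.toRingHom ≤ J.map (Ideal.Quotient.mk K) := fun x hx => by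
    obtain ⟨f, rfl⟩ := Ideal.Quotient.mk_surjective x
    exact Ideal.mem_map_of_mem _ (Ideal.Quotient.eq_zero_iff_mem.1 hx)
  have hnil : IsNilpotent (RingHom.ker π.toRingHom) := ⟨2, by
    rw [Ideal.zero_eq_bot, eq_bot_iff]
    refine (Ideal.pow_right_mono hker 2).trans ?_
    rw [← Ideal.map_pow, Ideal.map_quotient_self]⟩
  let σ := Algebra.FormallySmooth.liftOfSurjective (AlgHom.id A (B ⧸ J)) π hπ hnil
  have hσ : ∀ c, π (σ c) = c := fun c =>
    Algebra.FormallySmooth.liftOfSurjective_apply (AlgHom.id A (B ⧸ J)) π hπ hnil c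
  have hchoice : ∀ b : B, ∃ x : ↥J, Ideal.Quotient.mk K (x : B) =
      Ideal.Quotient.mk K b - σ (Ideal.Quotient.mk J b) := fun b => by
    have h1 : Ideal.Quotient.mk K b - σ (Ideal.Quotient.mk J b) ∈ J.map (Ideal.Quotient.mk K) := by
      refine hker ?_
      show π (Ideal.Quotient.mk K b - σ (Ideal.Quotient.mk J b)) = 0
      rw [map_sub, hσ, sub_eq_zero]; rfl
    obtain ⟨x, hx, he⟩ := (Ideal.mem_map_iff_of_surjective _ Ideal.Quotient.mk_surjective).1 h1
    exact ⟨⟨x, hx⟩, he⟩
  choose d hd using hchoice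
  have huniq : ∀ x y : ↥J, Ideal.Quotient.mk K (x : B) = Ideal.Quotient.mk K (y : B) →
      J.toCotangent x = J.toCotangent y := fun x y h => J.toCotangent_eq.2 (Ideal.Quotient.eq.1 h)
  have hdN : ∀ b, Ideal.Quotient.mk K (d b : B) ∈ J.map (Ideal.Quotient.mk K) := fun b =>
    Ideal.mem_map_of_mem _ (d b).2
  let Dl : B →ₗ[A] J.Cotangent :=
    { toFun := fun b => J.toCotangent (d b)
      map_add' := fun a b => by
        rw [← map_add]
        exact huniq _ _ (by rw [Submodule.coe_add, map_add, hd, hd, hd, map_add, map_add, map_add]; abel)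
      map_smul' := fun a b => by
        rw [RingHom.id_apply, ← algebraMap_smul B a (J.toCotangent (d b)), ← map_smul]
        refine huniq _ _ ?_
        rw [SetLike.val_smul, smul_eq_mul, map_mul, hd, hd, Algebra.smul_def, map_mul, map_mul, map_mul,
          mul_sub]
        congr 2
        exact σ.commutes a }
  refine ⟨Derivation.mk' Dl fun a b => ?_, fun x => ?_⟩
  · show J.toCotangent (d (a * b)) = a • J.toCotangent (d b) + b • J.toCotangent (d a)
    rw [← map_smul, ← map_smul, ← map_add]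
    refine huniq _ _ ?_
    rw [Submodule.coe_add, SetLike.val_smul, SetLike.val_smul, smul_eq_mul, smul_eq_mul, map_add,
      map_mul, map_mul, hd, hd, hd, map_mul, map_mul, map_mul]
    have h2 : (Ideal.Quotient.mk K a - σ (Ideal.Quotient.mk J a)) *
        (Ideal.Quotient.mk K b - σ (Ideal.Quotient.mk J b)) = 0 := by
      rw [← hd, ← hd, ← Ideal.mem_bot]
      have h3 : J.map (Ideal.Quotient.mk K) * J.map (Ideal.Quotient.mk K) = ⊥ := by
        rw [← Ideal.map_mul, ← pow_two, Ideal.map_quotient_self]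
      exact h3 ▸ Ideal.mul_mem_mul (hdN a) (hdN b)
    linear_combination -h2
  · refine huniq _ _ ?_
    rw [hd, Ideal.Quotient.eq_zero_iff_mem.2 x.2, map_zero, sub_zero]

/-- `J/J²` is projective over `B/J`. -/
theorem projective_cotangent (h : CAlgX.IsAdicFormallySmooth A B J) :
    Module.Projective (B ⧸ J) J.Cotangent := by
  obtain ⟨δ, hδ⟩ := exists_retraction_derivation (A := A) J
  haveI : IsScalarTower A (B ⧸ J) J.Cotangent := IsScalarTower.of_algebraMap_smul fun a l => by
    rw [IsScalarTower.algebraMap_apply A B (B ⧸ J), algebraMap_smul, algebraMap_smul]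
  refine Module.Projective.of_lifting_property'' fun f hf => ?_
  obtain ⟨D, hD⟩ := GrothLib.AdicFS.exists_derivation_lift (𝔞 := (⊥ : Ideal A)) (𝔟 := J) (B₀ := B ⧸ J)
    ⟨1, by rw [pow_one, Ideal.map_bot]; exact bot_le⟩ ((GrothLib.AdicFS.isAdicFormallySmooth_iff J).1 h)
    ⟨1, fun x hx => Ideal.Quotient.eq_zero_iff_mem.2 (by simpa using hx)⟩ f hf δ
  let DJ : ↥J →ₗ[B] (J.Cotangent →₀ (B ⧸ J)) :=
    { toFun := fun x => D (x : B)
      map_add' := fun x y => map_add D (x : B) (y : B)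
      map_smul' := fun b x => by
        show D (b * (x : B)) = b • D (x : B)
        rw [Derivation.leibniz, ← algebraMap_smul (B ⧸ J) (x : B) (D b), Ideal.Quotient.algebraMap_eq,
          Ideal.Quotient.eq_zero_iff_mem.2 x.2, zero_smul, add_zero] }
  let hb : J.Cotangent →ₗ[B] (J.Cotangent →₀ (B ⧸ J)) := Submodule.liftQ _ DJ (by
    refine Submodule.smul_le.2 fun a ha y _ => ?_
    show DJ (a • y) = 0
    rw [map_smul, ← algebraMap_smul (B ⧸ J) a, Ideal.Quotient.algebraMap_eq,
      Ideal.Quotient.eq_zero_iff_mem.2 ha, zero_smul])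
  refine ⟨{ hb with
    map_smul' := fun c l => by
      obtain ⟨b, rfl⟩ := Ideal.Quotient.mk_surjective c
      show hb (Ideal.Quotient.mk J b • l) = Ideal.Quotient.mk J b • hb l
      rw [show Ideal.Quotient.mk J b • l = b • l from algebraMap_smul (B ⧸ J) b l, map_smul]
      exact (algebraMap_smul (B ⧸ J) b _).symm }, LinearMap.ext fun l => ?_⟩
  obtain ⟨x, rfl⟩ := J.toCotangent_surjective l
  show f (D (x : B)) = J.toCotangent x
  rw [hD, hδ]

/-- A free presentation of a projective module. -/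
theorem exists_presentation [Module.Projective (B ⧸ J) J.Cotangent] :
    ∃ (σ : Type u) (r : (σ →₀ B ⧸ J) →ₗ[B ⧸ J] J.Cotangent)
      (s : J.Cotangent →ₗ[B ⧸ J] σ →₀ B ⧸ J), ∀ x, r (s x) = x := by
  obtain ⟨s, hs⟩ := Module.projective_def'.1 ‹Module.Projective (B ⧸ J) J.Cotangent›
  exact ⟨J.Cotangent, Finsupp.linearCombination (B ⧸ J) id, s, fun x => LinearMap.congr_fun hs x⟩

omit [Algebra.FormallySmooth A (B ⧸ J)] in
/-- An infinitesimal Taylor map lifts to every order. -/
theorem exists_taylor (h : CAlgX.IsAdicFormallySmooth A B J) {P : Type u} [CommRing P] [Algebra A P]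
    (V : Ideal P) (c : B →ₐ[A] P) (d : B →ₗ[A] P) (hd : ∀ b, d b ∈ V)
    (hdmul : ∀ x y, d (x * y) = c x * d y + c y * d x) (hd1 : ∀ a, d (algebraMap A B a) = 0)
    (hc : ∀ x ∈ J, c x = 0) (n : ℕ) (hn : 1 ≤ n) :
    ∃ g : B →ₐ[A] P ⧸ V ^ (n + 1),
      ∀ x, g x - Ideal.Quotient.mk _ (c x + d x) ∈ (V.map (Ideal.Quotient.mk (V ^ (n + 1)))) ^ 2 := by
  let q1 := Ideal.Quotient.mkₐ A (V ^ 2)
  let g1 : B →ₐ[A] P ⧸ V ^ 2 :=
    { toFun := fun x => q1 (c x + d x)
      map_one' := by
        have : d 1 = 0 := by simpa using hd1 1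
        rw [this, add_zero, map_one, map_one]
      map_mul' := fun x y => by
        rw [← map_mul q1, ← sub_eq_zero, ← map_sub, Ideal.Quotient.mkₐ_eq_mk,
          Ideal.Quotient.eq_zero_iff_mem, hdmul, map_mul,
          show c x * c y + (c x * d y + c y * d x) - (c x + d x) * (c y + d y) = -(d x * d y) by ring, pow_two]
        exact neg_mem (Ideal.mul_mem_mul (hd x) (hd y))
      map_zero' := by simp
      map_add' := fun x y => by
        rw [← map_add q1]
        congr 1
        simp only [map_add]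
        abel
      commutes' := fun a => by
        rw [hd1, add_zero, c.commutes]
        exact q1.commutes a }
  let π : (P ⧸ V ^ (n + 1)) →ₐ[A] P ⧸ V ^ 2 :=
    Ideal.Quotient.factorₐ A (Ideal.pow_le_pow_right (by omega : 2 ≤ n + 1))
  have hπ : Function.Surjective π := fun x => by
    obtain ⟨f, rfl⟩ := Ideal.Quotient.mk_surjective x
    exact ⟨Ideal.Quotient.mk _ f, rfl⟩
  have hker : RingHom.ker π.toRingHom ≤ (V.map (Ideal.Quotient.mk (V ^ (n + 1)))) ^ 2 := by
    intro x hx
    obtain ⟨f, rfl⟩ := Ideal.Quotient.mk_surjective x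
    rw [← Ideal.map_pow]
    exact Ideal.mem_map_of_mem _ (Ideal.Quotient.eq_zero_iff_mem.1 hx)
  have hnil : IsNilpotent (RingHom.ker π.toRingHom) := ⟨n + 1, by
    rw [Ideal.zero_eq_bot, eq_bot_iff]
    refine (Ideal.pow_right_mono hker _).trans ?_
    rw [← pow_mul, ← Ideal.map_pow]
    refine (Ideal.map_mono (Ideal.pow_le_pow_right (by omega : n + 1 ≤ 2 * (n + 1)))).trans ?_
    rw [Ideal.map_quotient_self]⟩
  let e := Ideal.quotientKerAlgEquivOfSurjective hπ
  have hg1J : ∀ x ∈ J ^ 2, g1 x = 0 := by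
    refine (GrothLib.AdicFS.kills_iff_map_eq_bot g1 (J ^ 2)).2 ?_
    have hJ : J.map g1.toRingHom ≤ V.map (Ideal.Quotient.mk (V ^ 2)) := by
      refine Ideal.map_le_iff_le_comap.2 fun x hx => ?_
      show q1 (c x + d x) ∈ V.map (Ideal.Quotient.mk (V ^ 2))
      rw [hc x hx, zero_add]
      exact Ideal.mem_map_of_mem _ (hd x)
    rw [eq_bot_iff, Ideal.map_pow]
    refine (Ideal.pow_right_mono hJ 2).trans ?_
    rw [← Ideal.map_pow, Ideal.map_quotient_self]
  obtain ⟨g, hg⟩ := (GrothLib.AdicFS.isAdicFormallySmooth_iff J).1 h (P ⧸ V ^ (n + 1))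
    (RingHom.ker π.toRingHom) hnil ⟨1, by rw [pow_one, Ideal.map_bot]⟩ (e.symm.toAlgHom.comp g1)
    ⟨2, fun x hx => by
      show e.symm (g1 x) = 0
      rw [hg1J x hx, map_zero]⟩
  refine ⟨g, fun x => hker ?_⟩
  have hπg : π (g x) = g1 x := ((congrArg e (AlgHom.congr_fun hg x)).trans (e.apply_symm_apply _) :)
  show π (g x - Ideal.Quotient.mk _ (c x + d x)) = 0
  rw [map_sub, hπg, sub_eq_zero]
  rfl

omit [Algebra.FormallySmooth A (B ⧸ J)] in
/-- The consequences of the Taylor map in degree `n`. -/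
theorem exists_taylor_graded (h : CAlgX.IsAdicFormallySmooth A B J) {P : Type u} [CommRing P] [Algebra A P]
    (V : Ideal P) (c : B →ₐ[A] P) (d : B →ₗ[A] P) (hd : ∀ b, d b ∈ V)
    (hdmul : ∀ x y, d (x * y) = c x * d y + c y * d x) (hd1 : ∀ a, d (algebraMap A B a) = 0)
    (hc : ∀ x ∈ J, c x = 0) (ι : Type u) [Fintype ι] (n : ℕ) (hn : 1 ≤ n) (hι : Fintype.card ι = n) :
    ∃ g : B →ₐ[A] P ⧸ V ^ (n + 1), (∀ y ∈ J ^ (n + 1), g y = 0) ∧
      (∀ b, ∀ y ∈ J ^ n, g (b * y) = Ideal.Quotient.mk _ (c b) * g y) ∧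
      ∀ x : ι → ↥J, g (∏ i, (x i : B)) = Ideal.Quotient.mk _ (∏ i, d (x i : B)) := by
  obtain ⟨g, hg⟩ := exists_taylor J h V c d hd hdmul hd1 hc n hn
  let mk := Ideal.Quotient.mk (V ^ (n + 1))
  have hMn : (V.map mk) ^ (n + 1) = ⊥ := by rw [← Ideal.map_pow, Ideal.map_quotient_self]
  have hgC : ∀ b : B, g b - mk (c b) ∈ V.map mk := fun b => by
    have h3 := add_mem (Ideal.pow_le_self two_ne_zero (hg b)) (Ideal.mem_map_of_mem mk (hd b))
    rwa [map_add, sub_add_eq_sub_sub, sub_add_cancel] at h3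
  have hgJ : ∀ x : ↥J, g (x : B) - mk (d (x : B)) ∈ (V.map mk) ^ 2 := fun x => by
    have h1 := hg (x : B)
    rwa [hc _ x.2, zero_add] at h1
  have hgM : ∀ x : ↥J, g (x : B) ∈ V.map mk := fun x => by
    have := add_mem (Ideal.pow_le_self two_ne_zero (hgJ x)) (Ideal.mem_map_of_mem mk (hd (x : B)))
    rwa [sub_add_cancel] at this
  have hgpow : ∀ (i : ℕ), ∀ y ∈ J ^ i, g y ∈ (V.map mk) ^ i := fun i y hy => by
    have hle : J.map g.toRingHom ≤ V.map mk := Ideal.map_le_iff_le_comap.2 fun x hx => hgM ⟨x, hx⟩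
    have := Ideal.mem_map_of_mem g.toRingHom hy
    rw [Ideal.map_pow] at this
    exact Ideal.pow_right_mono hle i this
  refine ⟨g, fun y hy => ?_, fun b y hy => ?_, fun x => ?_⟩
  · rw [← Ideal.mem_bot, ← hMn]; exact hgpow _ _ hy
  · rw [map_mul, ← sub_eq_zero, ← sub_mul, ← Ideal.mem_bot, ← hMn]
    exact (pow_succ' (V.map mk) n).ge (Ideal.mul_mem_mul (hgC b) (hgpow n _ hy))
  · rw [map_prod, map_prod, ← sub_eq_zero, ← Ideal.mem_bot, ← hMn]
    have := GrothLib.PrincipalParts.prod_sub_prod_mem (V.map mk) (Finset.univ : Finset ι)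
      (fun i => g (x i : B)) (fun i => mk (d (x i : B))) (fun i _ => hgM (x i))
      (fun i _ => Ideal.mem_map_of_mem mk (hd _)) fun i _ => hgJ (x i)
    rw [Finset.card_univ, hι] at this
    exact this

/-- Formal smoothness forces `Sym → gr` to be bijective. -/
theorem symGrBijective (h : CAlgX.IsAdicFormallySmooth A B J) : PP16.SymGrBijective B J := by
  classical
  intro ι _ _
  obtain ⟨φ, hφ, hsurj⟩ := exists_phi J (ι := ι)
  refine ⟨φ, hφ, ?_, hsurj⟩
  haveI := projective_cotangent J h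
  obtain ⟨σ, r, s, hrs⟩ := exists_presentation J
  obtain ⟨δ, hδ⟩ := exists_retraction_derivation (A := A) J
  let c : B →ₐ[A] MvPolynomial σ (B ⧸ J) :=
    (IsScalarTower.toAlgHom A (B ⧸ J) (MvPolynomial σ (B ⧸ J))).comp (Ideal.Quotient.mkₐ A J)
  have hsm : ∀ (b : B) (v : J.Cotangent),
      linForm (s (b • v)) = c b * linForm (s v) := fun b v => by
    rw [← algebraMap_smul (B ⧸ J) b v, map_smul, map_smul, Algebra.smul_def]
    rfl
  let d : B →ₗ[A] MvPolynomial σ (B ⧸ J) :=
    { toFun := fun x => linForm (s (δ x))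
      map_add' := fun x y => by rw [map_add, map_add, map_add]
      map_smul' := fun a x => by
        rw [RingHom.id_apply, Derivation.map_smul, ← algebraMap_smul B a (δ x), hsm, c.commutes, ← Algebra.smul_def] }
  have hc : ∀ x ∈ J, c x = 0 := fun x hx => by
    show algebraMap (B ⧸ J) _ (Ideal.Quotient.mk J x) = 0
    rw [Ideal.Quotient.eq_zero_iff_mem.2 hx, map_zero]
  have hd : ∀ b, d b ∈ idealOfVars σ (B ⧸ J) := fun b => linForm_mem_idealOfVars _
  obtain ⟨g, hg0, hgmul, hgprod⟩ := exists_taylor_graded J h (idealOfVars σ (B ⧸ J)) c d hd (fun x y => by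
      show linForm (s (δ (x * y))) = c x * linForm (s (δ y)) + c y * linForm (s (δ x))
      rw [Derivation.leibniz, map_add, map_add, hsm, hsm])
    (fun a => by
      show linForm (s (δ (algebraMap A B a))) = 0
      rw [Derivation.map_algebraMap, map_zero, map_zero]) hc ι (Fintype.card ι) Fintype.card_pos rfl
  have hmks : Function.Surjective (Ideal.Quotient.mk (idealOfVars σ (B ⧸ J) ^ (Fintype.card ι + 1))) :=
    Ideal.Quotient.mk_surjective
  generalize hmk : Ideal.Quotient.mk (idealOfVars σ (B ⧸ J) ^ (Fintype.card ι + 1)) = mk at hgmul hgprod hmks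
  have hwd : ∀ f f', mk f = mk f' → ofPoly J ι r f = ofPoly J ι r f' := fun f f' h => by
    rw [← sub_eq_zero, ← map_sub]
    refine ofPoly_eq_zero J r ?_
    exact Ideal.Quotient.eq.1 (by rw [hmk]; exact h)
  let rep := Function.surjInv hmks
  have hrep : ∀ z, mk (rep z) = z := Function.surjInv_eq hmks
  let Ψ : ↥(J ^ Fintype.card ι) →ₗ[B] SymmetricPower B ι J.Cotangent :=
    { toFun := fun y => ofPoly J ι r (rep (g (y : B)))
      map_add' := fun y z => by
        rw [← map_add]
        exact hwd _ _ (by rw [map_add, hrep, hrep, hrep, Submodule.coe_add, map_add])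
      map_smul' := fun b y => by
        rw [RingHom.id_apply, ← map_smul]
        refine hwd _ _ ?_
        rw [hrep, SetLike.val_smul, smul_eq_mul, hgmul b _ y.2, Algebra.smul_def, map_mul, hrep]
        rfl }
  let Ψq : PP16.grJ B J (Fintype.card ι) →ₗ[B] SymmetricPower B ι J.Cotangent :=
    Submodule.liftQ _ Ψ fun y hy => by
      show ofPoly J ι r (rep (g (y : B))) = 0
      rw [show g (y : B) = 0 from hg0 _ hy, hwd (rep 0) 0 (by rw [hrep, map_zero]), map_zero]
  have hcomp : Ψq ∘ₗ φ = LinearMap.id := sym_ext fun l => by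
    choose x hx using fun i => J.toCotangent_surjective (l i)
    rw [show l = fun i => J.toCotangent (x i) from funext fun i => (hx i).symm, LinearMap.comp_apply, hφ,
      LinearMap.id_apply]
    show ofPoly J ι r (rep (g (∏ i, (x i : B)))) = _
    rw [hgprod x, hwd (rep (mk _)) (prodForm ι fun i => s (J.toCotangent (x i))) ?_, ofPoly_prodForm]
    · simp only [hrs]
    · rw [hrep, prodForm_apply]
      refine congrArg mk (Finset.prod_congr rfl fun i _ => ?_)
      show linForm (s (δ (x i : B))) = _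
      rw [hδ]
  exact Function.LeftInverse.injective (g := Ψq) fun a => LinearMap.congr_fun hcomp a

theorem card_fin (n : ℕ) : Fintype.card (ULift.{u} (Fin n)) = n := by simp

section model

variable {σ : Type u} (r : (σ →₀ B ⧸ J) →ₗ[B ⧸ J] J.Cotangent) (s : J.Cotangent →ₗ[B ⧸ J] σ →₀ B ⧸ J)
  {S : Type u} [CommRing S] (q : B →+* S) (θ : MvPolynomial σ (B ⧸ J) →+* S)
  (hV : ∀ (i : ℕ) (f : MvPolynomial σ (B ⧸ J)), f ∈ idealOfVars σ (B ⧸ J) ^ i → θ f ∈ J.map q ^ i)
  (hC : ∀ b : B, θ (C (Ideal.Quotient.mk J b)) - q b ∈ J.map q)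
  (hlin : ∀ v : σ →₀ B ⧸ J, ∃ x : ↥J, J.toCotangent x = r v ∧ θ (linForm v) - q (x : B) ∈ J.map q ^ 2)
include hV hC hlin

omit [Algebra.FormallySmooth A (B ⧸ J)] in
/-- `θ` induces the graded map. -/
theorem theta_class (i : ℕ) [Nonempty (ULift.{u} (Fin i))]
    (φ : SymmetricPower B (ULift.{u} (Fin i)) J.Cotangent →ₗ[B]
      PP16.grJ B J (Fintype.card (ULift.{u} (Fin i))))
    (hφ : ∀ x, φ (SymmetricPower.tprod B (fun l => J.toCotangent (x l))) = PP16.zetaJ B J x)
    (f : MvPolynomial σ (B ⧸ J)) (hf : f ∈ idealOfVars σ (B ⧸ J) ^ i) :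
    ∃ (y : B) (hy : y ∈ J ^ Fintype.card (ULift.{u} (Fin i))),
      φ (ofPoly J _ r f) = Submodule.Quotient.mk ⟨y, hy⟩ ∧ θ f - q y ∈ J.map q ^ (i + 1) := by
  classical
  have hmon : ∀ p : σ →₀ ℕ, i ≤ p.degree → ∀ c : B ⧸ J,
      ∃ (y : B) (hy : y ∈ J ^ Fintype.card (ULift.{u} (Fin i))),
        φ (ofPoly J _ r (monomial p c)) = Submodule.Quotient.mk ⟨y, hy⟩ ∧
          θ (monomial p c) - q y ∈ J.map q ^ (i + 1) := by
    intro p hp c
    obtain ⟨b, rfl⟩ := Ideal.Quotient.mk_surjective c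
    rw [ofPoly_monomial]
    by_cases hd : p.degree = Fintype.card (ULift.{u} (Fin i))
    · rw [dif_pos hd]
      choose x hx hx' using fun l => hlin (Finsupp.single ((exists_enum p hd).choose l) (1 : B ⧸ J))
      refine ⟨b * ∏ l, (x l : B), Ideal.mul_mem_left _ _ (by
        simpa using Ideal.prod_mem_prod (s := (Finset.univ : Finset (ULift.{u} (Fin i)))) (I := fun _ => J)
          (x := fun l => (x l : B)) fun l _ => (x l).2), ?_, ?_⟩
      · rw [map_smul, show (fun l => r (Finsupp.single ((exists_enum p hd).choose l) (1 : B ⧸ J))) =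
          fun l => J.toCotangent (x l) from funext fun l => (hx l).symm, hφ]
        rfl
      · have h1 : monomial p (Ideal.Quotient.mk J b) = C (Ideal.Quotient.mk J b) *
            prodForm _ (fun l => Finsupp.single ((exists_enum p hd).choose l) (1 : B ⧸ J)) := by
          rw [prodForm_single, (exists_enum p hd).choose_spec, C_mul_monomial, mul_one]
        rw [h1, map_mul, prodForm_apply, map_prod, map_mul, map_prod,
          show ∀ a a' u v : S, a * u - a' * v = (a - a') * u + a' * (u - v) from fun a a' u v => by ring]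
        refine add_mem ?_ (Ideal.mul_mem_left _ _ ?_)
        · rw [pow_succ']
          refine Ideal.mul_mem_mul (hC b) ?_
          have := Ideal.prod_mem_prod (s := (Finset.univ : Finset (ULift.{u} (Fin i)))) (I := fun _ => J.map q)
            (x := fun l => θ (linForm (Finsupp.single ((exists_enum p hd).choose l) (1 : B ⧸ J))))
            fun l _ => by simpa using hV 1 _ (by simpa using linForm_mem_idealOfVars _)
          simpa using this
        · have := prod_sub_prod_mem (J.map q) (Finset.univ : Finset (ULift.{u} (Fin i)))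
            (fun l => θ (linForm (Finsupp.single ((exists_enum p hd).choose l) (1 : B ⧸ J))))
            (fun l => q (x l : B))
            (fun l _ => by simpa using hV 1 _ (by simpa using linForm_mem_idealOfVars _))
            (fun l _ => Ideal.mem_map_of_mem _ (x l).2) (fun l _ => hx' l)
          simpa using this
    · rw [dif_neg hd, smul_zero]
      refine ⟨0, zero_mem _, by rw [map_zero]; rfl, ?_⟩
      rw [map_zero, sub_zero]
      refine hV _ _ ?_
      rw [card_fin] at hd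
      rcases eq_or_ne (Ideal.Quotient.mk J b) 0 with h0 | h0
      · rw [h0, monomial_zero]; exact zero_mem _
      · exact (monomial_mem_pow_idealOfVars_iff _ _ h0).2 (by omega)
  rw [f.as_sum]
  refine Finset.sum_induction _ (fun g => ∃ (y : B) (hy : y ∈ J ^ Fintype.card (ULift.{u} (Fin i))),
    φ (ofPoly J _ r g) = Submodule.Quotient.mk ⟨y, hy⟩ ∧
      θ g - q y ∈ J.map q ^ (i + 1)) ?_ ⟨0, zero_mem _, by rw [map_zero, map_zero]; rfl, by simp⟩
    fun p hp => hmon p ?_ _
  · rintro g g' ⟨y, hy, h1, h2⟩ ⟨y', hy', h1', h2'⟩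
    refine ⟨y + y', add_mem hy hy', by rw [map_add, map_add, h1, h1']; rfl, ?_⟩
    rw [map_add, map_add, add_sub_add_comm]
    exact add_mem h2 h2'
  · by_contra hlt
    exact mem_support_iff.1 hp ((mem_pow_idealOfVars_iff' _ _).1 hf p (by omega))

omit [Algebra.FormallySmooth A (B ⧸ J)] in
theorem theta_surjective (hrs : ∀ x, r (s x) = x) (hgr : PP16.SymGrBijective B J)
    (hq : Function.Surjective q) (m : ℕ) (hm : J.map q ^ m = ⊥) : Function.Surjective θ := by
  have key : ∀ i, ∀ x : S, ∃ f, x - θ f ∈ J.map q ^ i := by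
    intro i
    induction i with
    | zero => exact fun x => ⟨0, by simp⟩
    | succ i ih =>
      intro x
      obtain ⟨f, hf⟩ := ih x
      suffices ∀ w ∈ J.map q ^ i, ∃ g, w - θ g ∈ J.map q ^ (i + 1) by
        obtain ⟨g, hg⟩ := this _ hf
        exact ⟨f + g, by rwa [map_add, ← sub_sub]⟩
      intro w hw
      rw [← Ideal.map_pow] at hw
      obtain ⟨y, hy, rfl⟩ := (Ideal.mem_map_iff_of_surjective _ hq).1 hw
      rcases Nat.eq_zero_or_pos i with rfl | hi
      · refine ⟨C (Ideal.Quotient.mk J y), ?_⟩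
        rw [zero_add, pow_one]
        simpa using neg_mem (hC y)
      haveI : Nonempty (Fin i) := ⟨⟨0, hi⟩⟩
      obtain ⟨φ, hφ, hbij⟩ := hgr (ULift.{u} (Fin i))
      have hy' : y ∈ J ^ Fintype.card (ULift.{u} (Fin i)) := by rwa [card_fin]
      obtain ⟨z, hz⟩ := hbij.2 (Submodule.Quotient.mk ⟨y, hy'⟩)
      refine ⟨toPoly J _ s z, ?_⟩
      obtain ⟨y₂, hy₂, h1, h2⟩ := theta_class J r q θ hV hC hlin i φ hφ (toPoly J _ s z)
        (by simpa [card_fin] using toPoly_mem_pow J s z)
      rw [ofPoly_toPoly J r s hrs, hz, Submodule.Quotient.eq] at h1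
      have h3 : y - y₂ ∈ J ^ (i + 1) := by
        have : y - y₂ ∈ J ^ (Fintype.card (ULift.{u} (Fin i)) + 1) := h1
        rwa [card_fin] at this
      have h4 : q (y - y₂) ∈ J.map q ^ (i + 1) := by
        rw [← Ideal.map_pow]; exact Ideal.mem_map_of_mem q h3
      have h5 := sub_mem h4 h2
      rwa [map_sub, sub_sub_sub_cancel_right] at h5
  intro x
  obtain ⟨f, hf⟩ := key m x
  rw [hm, Ideal.mem_bot, sub_eq_zero] at hf
  exact ⟨f, hf.symm⟩

omit [Algebra.FormallySmooth A (B ⧸ J)] in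
theorem theta_kernel (hrs : ∀ x, r (s x) = x) (hgr : PP16.SymGrBijective B J)
    (hθp : ∀ f, θ (proj J r s f) = θ f) (m : ℕ) (hm : 1 ≤ m) (hker : RingHom.ker q ≤ J ^ m)
    (hq : Function.Surjective q)
    (f : MvPolynomial σ (B ⧸ J)) (hf : θ f = 0) : proj J r s f ∈ idealOfVars σ (B ⧸ J) ^ m := by
  classical
  have hp : θ (proj J r s f) = 0 := (hθp f).trans hf
  have hpull : ∀ (i : ℕ), i ≤ m → ∀ y, q y ∈ J.map q ^ i → y ∈ J ^ i := fun i hi y hy => by
    rw [← Ideal.map_pow, Ideal.mem_map_iff_of_surjective _ hq] at hy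
    obtain ⟨z, hz, he⟩ := hy
    have := Ideal.pow_le_pow_right hi (hker (show y - z ∈ RingHom.ker q by
      rw [RingHom.mem_ker, map_sub, he, sub_self]))
    simpa using add_mem this hz
  suffices ∀ i, i ≤ m → proj J r s f ∈ idealOfVars σ (B ⧸ J) ^ i from this m le_rfl
  intro i
  induction i with
  | zero => intro _; simp
  | succ i ih =>
    intro hi
    have hmem := ih (by omega)
    rcases Nat.eq_zero_or_pos i with rfl | hpos
    · obtain ⟨b, hb⟩ := Ideal.Quotient.mk_surjective ((proj J r s f).coeff 0)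
      have h1 : proj J r s f - C (Ideal.Quotient.mk J b) ∈ idealOfVars σ (B ⧸ J) ^ 1 := by
        rw [mem_pow_idealOfVars_iff']
        intro p hp
        have : p = 0 := by simpa [Finsupp.degree_eq_zero_iff] using Nat.lt_one_iff.1 hp
        subst this
        rw [coeff_sub, coeff_C, if_pos rfl, hb, sub_self]
      have h2 := hV 1 _ h1
      rw [map_sub, hp, zero_sub, neg_mem_iff] at h2
      have h3 : q b ∈ J.map q ^ 1 := by
        rw [pow_one] at h2 ⊢
        simpa using sub_mem h2 (hC b)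
      have h4 := hpull 1 (by omega) b h3
      rw [pow_one] at h4
      rw [Ideal.Quotient.eq_zero_iff_mem.2 h4, map_zero, sub_zero] at h1
      exact h1
    haveI : Nonempty (Fin i) := ⟨⟨0, hpos⟩⟩
    obtain ⟨φ, hφ, hbij⟩ := hgr (ULift.{u} (Fin i))
    obtain ⟨y, hy, h1, h2⟩ := theta_class J r q θ hV hC hlin i φ hφ _ hmem
    rw [hp, zero_sub, neg_mem_iff] at h2
    have h0 : ofPoly J (ULift.{u} (Fin i)) r (proj J r s f) = 0 := by
      refine hbij.1 ?_
      rw [h1, map_zero, Submodule.Quotient.mk_eq_zero]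
      show y ∈ J ^ (Fintype.card (ULift.{u} (Fin i)) + 1)
      rw [card_fin]
      exact hpull _ hi y h2
    have h5 := proj_sub_toPoly_ofPoly J r s (ι := ULift.{u} (Fin i)) (f := proj J r s f)
      (by rwa [card_fin])
    rw [h0, map_zero, sub_zero, proj_proj J r s hrs, card_fin] at h5
    exact h5

end model

omit [Algebra.FormallySmooth A (B ⧸ J)] in
theorem exists_congr_lift {σ : Type u} (r : (σ →₀ B ⧸ J) →ₗ[B ⧸ J] J.Cotangent)
    {S : Type u} [CommRing S] (q : B →+* S) (θ₀ : MvPolynomial σ (B ⧸ J) →+* S) (u : σ → ↥J)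
    (hu : ∀ j, J.toCotangent (u j) = r (Finsupp.single j 1))
    (hX : ∀ j, θ₀ (X j) = q (u j : B))
    (hC : ∀ b : B, θ₀ (C (Ideal.Quotient.mk J b)) - q b ∈ J.map q) (v : σ →₀ B ⧸ J) :
    ∃ x : ↥J, J.toCotangent x = r v ∧ θ₀ (linForm v) - q (x : B) ∈ J.map q ^ 2 := by
  induction v using Finsupp.induction_linear with
  | zero => exact ⟨0, by rw [map_zero, map_zero], by simp⟩
  | add f g hf hg =>
    obtain ⟨x, hx, hx'⟩ := hf
    obtain ⟨y, hy, hy'⟩ := hg
    refine ⟨x + y, by rw [map_add, map_add, hx, hy], ?_⟩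
    rw [map_add, map_add, Submodule.coe_add, map_add, add_sub_add_comm]
    exact add_mem hx' hy'
  | single j c =>
    obtain ⟨b, rfl⟩ := Ideal.Quotient.mk_surjective c
    refine ⟨b • u j, ?_, ?_⟩
    · rw [map_smul, hu, ← Finsupp.smul_single_one j (Ideal.Quotient.mk J b), map_smul]
      exact (algebraMap_smul (B ⧸ J) b _).symm
    · rw [linForm, Finsupp.linearCombination_single, smul_eq_C_mul, map_mul, hX,
        SetLike.val_smul, smul_eq_mul, map_mul, ← sub_mul, pow_two]
      exact Ideal.mul_mem_mul (hC b) (Ideal.mem_map_of_mem _ (u j).2)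

/-- Projectivity and bijectivity give formal smoothness. -/
theorem isAdicFormallySmooth [Module.Projective (B ⧸ J) J.Cotangent] (hgr : PP16.SymGrBijective B J) :
    CAlgX.IsAdicFormallySmooth A B J := by
  classical
  intro T _ _ N hN ψ ⟨k, hk⟩
  obtain ⟨σ, r, s, hrs⟩ := exists_presentation J
  let m := 2 * k + 1
  let q := Ideal.Quotient.mk (J ^ m)
  have hJ'm : J.map q ^ m = ⊥ := by rw [← Ideal.map_pow, Ideal.map_quotient_self]
  let π : (B ⧸ J ^ m) →ₐ[A] B ⧸ J := Ideal.Quotient.factorₐ A (Ideal.pow_le_self (by omega))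
  have hπ : Function.Surjective π := fun x => by
    obtain ⟨f, rfl⟩ := Ideal.Quotient.mk_surjective x
    exact ⟨Ideal.Quotient.mk _ f, rfl⟩
  have hker : RingHom.ker π.toRingHom ≤ J.map q := fun x hx => by
    obtain ⟨f, rfl⟩ := Ideal.Quotient.mk_surjective x
    exact Ideal.mem_map_of_mem _ (Ideal.Quotient.eq_zero_iff_mem.1 hx)
  have hnil : IsNilpotent (RingHom.ker π.toRingHom) := ⟨m, by
    rw [Ideal.zero_eq_bot, eq_bot_iff]
    exact (Ideal.pow_right_mono hker m).trans hJ'm.le⟩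
  let σm := Algebra.FormallySmooth.liftOfSurjective (AlgHom.id A (B ⧸ J)) π hπ hnil
  have hσm : ∀ b, σm (Ideal.Quotient.mk J b) - q b ∈ J.map q := fun b => by
    refine hker ?_
    show π (σm (Ideal.Quotient.mk J b) - q b) = 0
    rw [map_sub, Algebra.FormallySmooth.liftOfSurjective_apply, sub_eq_zero]; rfl
  choose u hu using fun j => J.toCotangent_surjective (r (Finsupp.single j 1))
  let θ₀ : MvPolynomial σ (B ⧸ J) →+* B ⧸ J ^ m := eval₂Hom σm.toRingHom fun j => q (u j : B)
  have hX : ∀ j, θ₀ (X j) = q (u j : B) := fun j => eval₂Hom_X' _ _ _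
  have hC₀ : ∀ c, θ₀ (C c) = σm c := fun c => eval₂Hom_C _ _ _
  let θ : MvPolynomial σ (B ⧸ J) →+* B ⧸ J ^ m := θ₀.comp (proj J r s).toRingHom
  have hθC : ∀ c, θ (C c) = σm c := fun c => by
    show θ₀ (proj J r s (C c)) = _
    rw [← MvPolynomial.algebraMap_eq, AlgHom.commutes, MvPolynomial.algebraMap_eq]
    exact hC₀ c
  have hC : ∀ b : B, θ (C (Ideal.Quotient.mk J b)) - q b ∈ J.map q := fun b => by rw [hθC]; exact hσm b
  have hθ₀V : (idealOfVars σ (B ⧸ J)).map θ₀ ≤ J.map q := by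
    rw [idealOfVars, Ideal.map_span, Ideal.span_le]
    rintro _ ⟨_, ⟨j, rfl⟩, rfl⟩
    rw [SetLike.mem_coe, hX]
    exact Ideal.mem_map_of_mem _ (u j).2
  have hV₀ : ∀ (i : ℕ) (f : MvPolynomial σ (B ⧸ J)), f ∈ idealOfVars σ (B ⧸ J) ^ i → θ₀ f ∈ J.map q ^ i :=
    fun i f hf => by
      have := Ideal.mem_map_of_mem θ₀ hf
      rw [Ideal.map_pow] at this
      exact Ideal.pow_right_mono hθ₀V i this
  have hV : ∀ (i : ℕ) (f : MvPolynomial σ (B ⧸ J)), f ∈ idealOfVars σ (B ⧸ J) ^ i → θ f ∈ J.map q ^ i :=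
    fun i f hf => hV₀ i _ (proj_mem_pow J r s hf)
  have hlin : ∀ v : σ →₀ B ⧸ J, ∃ x : ↥J, J.toCotangent x = r v ∧ θ (linForm v) - q (x : B) ∈ J.map q ^ 2 :=
    fun v => by
      obtain ⟨x, hx, hx'⟩ := exists_congr_lift J r q θ₀ u hu hX (fun b => by rw [hC₀]; exact hσm b) (s (r v))
      refine ⟨x, by rw [hx, hrs], ?_⟩
      show θ₀ (proj J r s (linForm v)) - _ ∈ _
      rwa [proj_linForm]
  have hθp : ∀ f, θ (proj J r s f) = θ f := fun f => congrArg θ₀ (proj_proj J r s hrs f)
  have hθsurj := theta_surjective J r s q θ hV hC hlin hrs hgr Ideal.Quotient.mk_surjective m hJ'm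
  have hkerθ := theta_kernel J r s q θ hV hC hlin hrs hgr hθp m (by omega) (Ideal.mk_ker).le
    Ideal.Quotient.mk_surjective
  -- the lift
  let ψm : (B ⧸ J ^ m) →ₐ[A] T ⧸ N := Ideal.Quotient.liftₐ (J ^ m) ψ fun x hx =>
    hk x (Ideal.pow_le_pow_right (by omega) hx)
  have hN' : IsNilpotent (RingHom.ker (Ideal.Quotient.mkₐ A N).toRingHom) := ⟨2, by
    rw [show RingHom.ker (Ideal.Quotient.mkₐ A N).toRingHom = N from Ideal.mk_ker]; exact hN⟩
  let τ : B ⧸ J →ₐ[A] T := Algebra.FormallySmooth.liftOfSurjective (ψm.comp σm)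
    (Ideal.Quotient.mkₐ A N) Ideal.Quotient.mk_surjective hN'
  choose t ht using fun j => Ideal.Quotient.mk_surjective (I := N) (ψm (q (u j : B)))
  let h0 : MvPolynomial σ (B ⧸ J) →+* T := eval₂Hom τ.toRingHom t
  have hh : ∀ f, Ideal.Quotient.mk N (h0 f) = ψm (θ₀ f) := RingHom.congr_fun
    (MvPolynomial.ringHom_ext (f := (Ideal.Quotient.mk N).comp h0) (g := ψm.toRingHom.comp θ₀)
      (fun c => by
        simp only [RingHom.comp_apply, h0, eval₂Hom_C, hC₀]
        exact Algebra.FormallySmooth.liftOfSurjective_apply (ψm.comp σm) (Ideal.Quotient.mkₐ A N)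
          Ideal.Quotient.mk_surjective hN' c)
      fun j => by
        simp only [RingHom.comp_apply, h0, eval₂Hom_X', hX]
        exact ht j)
  have hhV : ∀ f ∈ idealOfVars σ (B ⧸ J) ^ m, h0 f = 0 := by
    intro f hf
    have hk1 : (idealOfVars σ (B ⧸ J) ^ k).map h0 ≤ N := by
      refine Ideal.map_le_iff_le_comap.2 fun g hg => ?_
      rw [Ideal.mem_comap, ← Ideal.Quotient.eq_zero_iff_mem, hh]
      have h2 := hV₀ k g hg
      rw [← Ideal.map_pow] at h2
      obtain ⟨y, hy, hye⟩ := (Ideal.mem_map_iff_of_surjective _ Ideal.Quotient.mk_surjective).1 h2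
      rw [← hye]
      exact hk y hy
    have h3 : f ∈ idealOfVars σ (B ⧸ J) ^ k * idealOfVars σ (B ⧸ J) ^ k := by
      rw [← pow_add]
      exact Ideal.pow_le_pow_right (by omega) hf
    have h4 := Ideal.mem_map_of_mem h0 h3
    rw [Ideal.map_mul] at h4
    have h5 := Ideal.mul_mono hk1 hk1 h4
    rwa [← pow_two, hN, Ideal.mem_bot] at h5
  let h1 : MvPolynomial σ (B ⧸ J) →+* T := h0.comp (proj J r s).toRingHom
  let L : (B ⧸ J ^ m) →+* T := RingHom.liftOfSurjective θ hθsurj
    ⟨h1, fun f hf => hhV _ (hkerθ f (RingHom.mem_ker.1 hf))⟩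
  have hcompθ : ∀ f, L (θ f) = h1 f := fun f => RingHom.liftOfRightInverse_comp_apply θ _ _ _ f
  have hχA : ∀ a : A, L.comp q (algebraMap A B a) = algebraMap A T a := fun a => by
    have hA : θ (C (algebraMap A (B ⧸ J) a)) = q (algebraMap A B a) := by
      rw [hθC]
      exact σm.commutes a
    show L (q (algebraMap A B a)) = _
    rw [← hA, hcompθ]
    show h0 (proj J r s (C (algebraMap A (B ⧸ J) a))) = _
    rw [← MvPolynomial.algebraMap_eq, AlgHom.commutes, MvPolynomial.algebraMap_eq, eval₂Hom_C]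
    exact τ.commutes a
  refine ⟨{ L.comp q with commutes' := hχA }, AlgHom.ext fun b => ?_⟩
  obtain ⟨f, hf⟩ := hθsurj (q b)
  show Ideal.Quotient.mk N (L (q b)) = ψ b
  rw [← hf, hcompθ]
  show Ideal.Quotient.mk N (h0 (proj J r s f)) = ψ b
  rw [hh, show θ₀ (proj J r s f) = θ f from rfl, hf]
  rfl

/-- The criterion. -/
theorem isAdicFormallySmooth_iff :
    CAlgX.IsAdicFormallySmooth A B J ↔
      Module.Projective (B ⧸ J) J.Cotangent ∧ PP16.SymGrBijective B J :=
  ⟨fun h => ⟨projective_cotangent J h, symGrBijective J h⟩,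
    fun ⟨_, h⟩ => isAdicFormallySmooth J h⟩

end GrothLib.SymGr
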