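import Groth.Agent.Lib.SymGr.Basic
import Groth.Agent.Lib.RegLoc.PowerSeries
import Groth.Agent.Lib.RegLoc.Normal
import Groth.Agent.Lib.RegLoc.QuasiRegular
import Groth.Agent.Lib.SeqKinds.NoetherianLocal
import Mathlib.RingTheory.KrullDimension.Regular

/-!
# The symmetric algebra criterion for regularity

If `x` lifts a basis of `J/J²` and generates `J`, then `Sym(J/J²) → gr_J` is bijective iff `x` is
quasi-regular; for the maximal ideal of a Noetherian local ring this says that the ring is regular.
-/

set_option autoImplicit false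
universe u

namespace GrothLib.SymGr

open MvPolynomial GrothLib.PrincipalParts

variable {B : Type u} [CommRing B] (J : Ideal B) {ι : Type u} [Fintype ι] [Nonempty ι] {σ : Type u}

/-- The graded map evaluates forms at the chosen elements. -/
theorem phi_ofPoly {φ : SymmetricPower B ι J.Cotangent →ₗ[B] PP16.grJ B J (Fintype.card ι)}
    (hφ : ∀ x : ι → ↥J, φ (SymmetricPower.tprod B (fun i => J.toCotangent (x i))) = PP16.zetaJ B J x)
    (r : (σ →₀ B ⧸ J) →ₗ[B ⧸ J] J.Cotangent) (x : σ → ↥J)
    (hr : ∀ j, r (Finsupp.single j 1) = J.toCotangent (x j))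
    {F : MvPolynomial σ B} (hF : F.IsHomogeneous (Fintype.card ι))
    (h : eval (fun j => (x j : B)) F ∈ J ^ Fintype.card ι) :
    φ (ofPoly J ι r (map (Ideal.Quotient.mk J) F)) = Submodule.Quotient.mk ⟨_, h⟩ := by
  classical
  have hdeg : ∀ p ∈ F.support, p.degree = Fintype.card ι := fun p hp => by
    have := hF (mem_support_iff.1 hp)
    rw [Finsupp.degree_eq_weight_one]
    exact this
  suffices key : ∀ s : Finset (σ →₀ ℕ), s ⊆ F.support →
      ∃ h : ∑ p ∈ s, eval (fun j => (x j : B)) (monomial p (coeff p F)) ∈ J ^ Fintype.card ι,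
        φ (ofPoly J ι r (map (Ideal.Quotient.mk J) (∑ p ∈ s, monomial p (coeff p F)))) =
          Submodule.Quotient.mk ⟨_, h⟩ by
    obtain ⟨h', he⟩ := key F.support subset_rfl
    rw [← F.as_sum] at he
    rw [he]
    congr 1
    refine Subtype.ext ?_
    show ∑ p ∈ F.support, eval (fun j => (x j : B)) (monomial p (coeff p F)) = eval _ F
    rw [← map_sum, ← F.as_sum]
  intro s
  induction s using Finset.induction with
  | empty =>
      intro _
      refine ⟨by simp, ?_⟩
      rw [Finset.sum_empty, map_zero, map_zero, map_zero]
      symm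
      rw [Submodule.Quotient.mk_eq_zero]
      simp
  | insert p s hps ih =>
      intro hsub
      obtain ⟨h1, he1⟩ := ih ((Finset.subset_insert p s).trans hsub)
      have hp := hdeg p (hsub (Finset.mem_insert_self p s))
      have hprod : ∏ i, (x ((exists_enum p hp).choose i) : B) = eval (fun j => (x j : B)) (monomial p 1) := by
        conv_rhs => rw [← (exists_enum p hp).choose_spec]
        rw [monomial_sum_one, map_prod]
        exact Finset.prod_congr rfl fun i _ => by rw [show monomial (Finsupp.single ((exists_enum p hp).choose i) 1) (1 : B) = X ((exists_enum p hp).choose i) from rfl, eval_X]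
      have h2 : eval (fun j => (x j : B)) (monomial p (coeff p F)) ∈ J ^ Fintype.card ι := by
        rw [← mul_one (coeff p F), ← smul_eq_mul, ← smul_monomial, smul_eval, ← hprod]
        exact Ideal.mul_mem_left _ _ (by
          simpa using Ideal.prod_mem_prod (ι := ι) (s := Finset.univ) (I := fun _ => J)
            (x := fun i => (x ((exists_enum p hp).choose i) : B)) fun i _ => (x _).2)
      refine ⟨by rw [Finset.sum_insert hps]; exact add_mem h2 h1, ?_⟩
      rw [Finset.sum_insert hps, map_add, map_add, map_add, he1, map_monomial, ofPoly_monomial, dif_pos hp,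
        map_smul]
      simp only [hr]
      rw [hφ, PP16.zetaJ, ← Submodule.Quotient.mk_smul, ← Submodule.Quotient.mk_add]
      congr 1
      refine Subtype.ext ?_
      show coeff p F * ∏ i, (x ((exists_enum p hp).choose i) : B) + _ =
        ∑ p ∈ insert p s, eval (fun j => (x j : B)) (monomial p (coeff p F))
      rw [Finset.sum_insert hps, hprod, ← smul_eval, smul_monomial, smul_eq_mul, mul_one]

/-- `Sym (J/J²) → gr_J` is bijective iff a sequence of generators lifting a basis is quasi-regular. -/
theorem symGrBijective_iff {d : ℕ} (x : Fin d → ↥J) (hx : Ideal.span (Set.range fun i => (x i : B)) = J)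
    (b : Module.Basis (Fin d) (B ⧸ J) J.Cotangent) (hb : ∀ i, b i = J.toCotangent (x i)) :
    PP16.SymGrBijective B J ↔ CAlgX.IsQuasiRegular fun i => (x i : B) := by
  classical
  let b' := b.reindex (Equiv.ulift.{u}.symm)
  let x' : ULift.{u} (Fin d) → ↥J := fun j => x j.down
  let r := b'.repr.symm.toLinearMap
  let s := b'.repr.toLinearMap
  have hr : ∀ j, r (Finsupp.single j 1) = J.toCotangent (x' j) := fun j => by
    show b'.repr.symm (Finsupp.single j 1) = _
    rw [Module.Basis.repr_symm_single_one, Module.Basis.reindex_apply, hb]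
    rfl
  have hrs : ∀ z, r (s z) = z := fun z => b'.repr.symm_apply_apply z
  have hproj : ∀ f, proj J r s f = f := fun f => by
    refine AlgHom.congr_fun (MvPolynomial.algHom_ext (f := proj J r s) (g := AlgHom.id _ _) fun j => ?_) f
    rw [proj, aeval_X, AlgHom.id_apply]
    show linForm (b'.repr (b'.repr.symm (Finsupp.single j 1))) = _
    rw [LinearEquiv.apply_symm_apply, linForm, Finsupp.linearCombination_single, one_smul]
  constructor
  · intro hbij n P hP hev p
    rw [hx] at hev ⊢
    rcases Nat.eq_zero_or_pos n with rfl | hn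
    · have hC := homogeneousComponent_eq_self hP
      rw [homogeneousComponent_zero] at hC
      rw [← hC, coeff_C]
      rw [← hC, eval_C, zero_add, pow_one] at hev
      split_ifs
      · exact hev
      · exact zero_mem _
    haveI : Nonempty (ULift.{u} (Fin n)) := ⟨⟨⟨0, hn⟩⟩⟩
    have hcard : Fintype.card (ULift.{u} (Fin n)) = n := by simp
    obtain ⟨φ, hφ, hφbij⟩ := hbij (ULift.{u} (Fin n))
    let e : Fin d → ULift.{u} (Fin d) := ULift.up
    have he : Function.Injective e := ULift.up_injective
    have hF : (rename e P).IsHomogeneous (Fintype.card (ULift.{u} (Fin n))) := by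
      rw [hcard]; exact hP.rename_isHomogeneous
    have heval : eval (fun j => (x' j : B)) (rename e P) = eval (fun i => (x i : B)) P := by
      rw [eval_rename]; rfl
    have h2 := phi_ofPoly J hφ r x' hr hF (by
      rw [heval, hcard]; exact Ideal.pow_le_pow_right (Nat.le_succ n) hev)
    rw [(Submodule.Quotient.mk_eq_zero _).2 (by
      show eval (fun j => (x' j : B)) (rename e P) ∈ J ^ (Fintype.card (ULift.{u} (Fin n)) + 1)
      rw [heval, hcard]; exact hev), ← map_zero φ] at h2
    have h3 := proj_sub_toPoly_ofPoly J r s
      (f := map (Ideal.Quotient.mk J) (rename e P)) (ι := ULift.{u} (Fin n)) (by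
        rw [mem_pow_idealOfVars_iff']
        intro q hq
        rw [coeff_map, hF.coeff_eq_zero (by omega), map_zero])
    rw [hproj, hφbij.1 h2, map_zero, sub_zero, mem_pow_idealOfVars_iff'] at h3
    by_cases hpd : p.degree = n
    · have h4 := h3 (p.mapDomain e) (by rw [Finsupp.degree_mapDomain, hpd, hcard]; omega)
      rwa [coeff_map, coeff_rename_mapDomain _ he, Ideal.Quotient.eq_zero_iff_mem] at h4
    · rw [hP.coeff_eq_zero hpd]
      exact zero_mem _
  · intro hq ι _ _
    obtain ⟨φ, hφ, hφs⟩ := exists_phi J (ι := ι)
    refine ⟨φ, hφ, (injective_iff_map_eq_zero φ).2 fun z hz => ?_, hφs⟩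
    set n := Fintype.card ι with hn
    have hf := toPoly_mem_pow J s z
    let g := homogeneousComponent n (toPoly J ι s z)
    have hg : ofPoly J ι r g = z := by
      conv_rhs => rw [← ofPoly_toPoly J r s hrs z]
      refine (eq_of_sub_eq_zero ?_).symm
      rw [← map_sub]
      refine ofPoly_eq_zero J r ((mem_pow_idealOfVars_iff' _ _).2 fun q hq => ?_)
      rw [coeff_sub, coeff_homogeneousComponent]
      split_ifs with h
      · rw [sub_self]
      · rw [sub_zero, (mem_pow_idealOfVars_iff' _ _).1 hf q (by omega)]
    obtain ⟨F, hF, hFg⟩ := GrothLib.RegLoc.exists_homogeneous_lift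
      (f := Ideal.Quotient.mk J) Ideal.Quotient.mk_surjective (homogeneousComponent_isHomogeneous n (toPoly J ι s z))
    let e : ULift.{u} (Fin d) → Fin d := ULift.down
    have hspan' : Ideal.span (Set.range fun j => (x' j : B)) = J := by
      conv_rhs => rw [← hx]
      congr 1
      exact (show Function.Surjective e from ULift.down_surjective).range_comp (fun i => (x i : B))
    have hmem : eval (fun j => (x' j : B)) F ∈ J ^ n := by
      have := (Ideal.mem_span_pow_iff_exists_isHomogeneous (n := n) (fun j => (x' j : B))
        (eval (fun j => (x' j : B)) F)).2 ⟨F, hF, rfl⟩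
      rwa [hspan'] at this
    have h2 := phi_ofPoly J hφ r x' hr hF hmem
    rw [hFg, hg, hz, eq_comm, Submodule.Quotient.mk_eq_zero] at h2
    have h3 := hq n (rename e F) hF.rename_isHomogeneous (by
      rw [hx, eval_rename]
      exact h2)
    have hmap : map (Ideal.Quotient.mk J) F = 0 := by
      ext q
      rw [coeff_map, coeff_zero, Ideal.Quotient.eq_zero_iff_mem, ← coeff_rename_mapDomain e ULift.down_injective]
      exact hx ▸ h3 _
    rw [← hg, show g = map (Ideal.Quotient.mk J) F from hFg.symm, hmap, map_zero]

open IsLocalRing RingTheory.Sequence in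
/-- A Noetherian local ring is regular iff `Sym (m/m²) → gr_m` is bijective. -/
theorem isRegularLocalRing_iff_symGrBijective (R : Type u) [CommRing R] [IsLocalRing R] [IsNoetherianRing R] :
    IsRegularLocalRing R ↔ PP16.SymGrBijective R (maximalIdeal R) := by
  letI := Ideal.Quotient.field (maximalIdeal R)
  let b : Module.Basis _ (R ⧸ maximalIdeal R) (maximalIdeal R).Cotangent :=
    Module.finBasis (ResidueField R) (CotangentSpace R)
  choose x hx using fun i => (maximalIdeal R).toCotangent_surjective (b i)
  have hspan : Ideal.span (Set.range fun i => (x i : R)) = maximalIdeal R := by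
    rw [← GrothLib.RegLoc.sup_sq_iff_span_toCotangent]
    simp only [hx]
    exact b.span_eq
  have hrank : (maximalIdeal R).spanFinrank = Module.finrank (ResidueField R) (CotangentSpace R) :=
    spanFinrank_maximalIdeal_eq_finrank_cotangentSpace R
  rw [symGrBijective_iff (maximalIdeal R) x hspan b fun i => (hx i).symm]
  constructor
  · intro h
    have hfr := GrothLib.RegLoc.regularFromRight_of_span_eq (fun i => (x i : R)) hrank hspan
    intro n P hP hev p
    have := GrothLib.RegLoc.map_eq_zero_of_eval_mem_pow_succ hfr hP hev
    rw [← Ideal.Quotient.eq_zero_iff_mem, ← coeff_map, this, coeff_zero]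
  · intro hq
    have hreg := GrothLib.SeqKinds.isRegular_of_isQuasiRegular _ (fun i => (x i).2) hq
    have hdim := ringKrullDim_add_length_eq_ringKrullDim_of_isRegular _ hreg
    have hI : Ideal.ofList (List.ofFn fun i => (x i : R)) = maximalIdeal R := by
      conv_rhs => rw [← hspan]
      rw [Ideal.ofList]
      congr 1
      ext y
      simp [List.mem_ofFn]
    rw [ringKrullDim_eq_of_ringEquiv (Ideal.quotEquivOfEq hI), ringKrullDim_eq_zero_of_field,
      zero_add, List.length_ofFn] at hdim
    refine IsRegularLocalRing.of_spanFinrank_maximalIdeal_le R ?_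
    rw [hrank, ← hdim]

end GrothLib.SymGr
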