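import Groth.Prelude.Def_PP16
import Groth.Agent.Lib.PrincipalParts.Graded
import Mathlib.RingTheory.MvPolynomial.Ideal

/-!
# Symmetric powers of `J/J²` as homogeneous polynomials over `B/J`

For an ideal `J` with `J/J²` a direct summand of the free `B/J`-module on `σ`, the symmetric powers
`Sym^n(J/J²)` are a direct summand of the polynomials of degree `n` over `B/J`.
-/

set_option autoImplicit false
universe u

noncomputable section

namespace GrothLib.SymGr

open MvPolynomial GrothLib.PrincipalParts

variable {B : Type u} [CommRing B] (J : Ideal B) {ι : Type u} [Fintype ι]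

theorem torsion [Nonempty ι] : Module.IsTorsionBySet B (SymmetricPower B ι J.Cotangent) ↑J := fun z b => by
  classical
  have hz : z ∈ Submodule.span B (Set.range (SymmetricPower.tprod B (ι := ι) (M := J.Cotangent))) :=
    (SymmetricPower.span_tprod_eq_top B ι J.Cotangent) ▸ Submodule.mem_top
  show (b : B) • z = 0
  induction hz using Submodule.span_induction with
  | mem y hy =>
    obtain ⟨x, rfl⟩ := hy
    obtain ⟨i⟩ := ‹Nonempty ι›
    have h := (SymmetricPower.tprod B (ι := ι) (M := J.Cotangent)).map_update_smul x i (b : B) (x i)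
    rw [Function.update_eq_self] at h
    rw [← h]
    refine (SymmetricPower.tprod B).map_coord_zero i ?_
    rw [Function.update_self, ← algebraMap_smul (B ⧸ J) (b : B) (x i), Ideal.Quotient.algebraMap_eq,
      Ideal.Quotient.eq_zero_iff_mem.2 b.2, zero_smul]
  | zero => rw [smul_zero]
  | add y w _ _ hy hw => rw [smul_add, hy, hw, add_zero]
  | smul c y _ hy => rw [smul_comm, hy, smul_zero]

/-- The graded map `Sym^n (J/J²) → J^n/J^(n+1)`. -/
theorem exists_phi : ∃ φ : SymmetricPower B ι J.Cotangent →ₗ[B] PP16.grJ B J (Fintype.card ι),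
    (∀ x : ι → ↥J, φ (SymmetricPower.tprod B (fun i => J.toCotangent (x i))) = PP16.zetaJ B J x) ∧
      Function.Surjective φ := by
  classical
  have hlift := fun l : J.Cotangent => J.toCotangent_surjective l
  choose lift hlift using hlift
  have hwd : ∀ x y : ι → ↥J, (∀ i, J.toCotangent (x i) = J.toCotangent (y i)) →
      PP16.zetaJ B J x = PP16.zetaJ B J y := fun x y h => by
    refine (Submodule.Quotient.eq _).2 ?_
    show ∏ i, (x i : B) - ∏ i, (y i : B) ∈ J ^ (Fintype.card ι + 1)
    exact prod_sub_prod_mem J Finset.univ _ _ (fun i _ => (x i).2) (fun i _ => (y i).2)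
      fun i _ => J.toCotangent_eq.1 (h i)
  have hprod : ∀ (x : ι → ↥J) (i : ι) (v : ↥J),
      ∏ k, ((Function.update x i v k : ↥J) : B) = (v : B) * ∏ k ∈ Finset.univ \ {i}, (x k : B) := by
    intro x i v
    rw [← Finset.prod_update_of_mem (Finset.mem_univ i) (fun k => (x k : B)) (v : B)]
    refine Finset.prod_congr rfl fun k _ => ?_
    rcases eq_or_ne k i with rfl | hk
    · rw [Function.update_self, Function.update_self]
    · rw [Function.update_of_ne hk, Function.update_of_ne hk]
  have hup : ∀ (l : ι → J.Cotangent) (i : ι) (a : J.Cotangent) (v : ↥J), J.toCotangent v = a →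
      PP16.zetaJ B J (fun k => lift (Function.update l i a k)) =
        PP16.zetaJ B J (Function.update (fun k => lift (l k)) i v) := fun l i a v hv => hwd _ _ fun k => by
    rcases eq_or_ne k i with rfl | hk
    · rw [hlift, Function.update_self, Function.update_self, hv]
    · rw [hlift, Function.update_of_ne hk, Function.update_of_ne hk, hlift]
  let m : MultilinearMap B (fun _ : ι => J.Cotangent) (PP16.grJ B J (Fintype.card ι)) :=
    { toFun := fun l => PP16.zetaJ B J fun i => lift (l i)
      map_update_add' := by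
        intro hd l i a b
        obtain rfl : hd = Classical.decEq ι := Subsingleton.elim _ _
        rw [hup l i (a + b) (lift a + lift b) (by rw [map_add, hlift, hlift]),
          hup l i a (lift a) (hlift a), hup l i b (lift b) (hlift b)]
        simp only [PP16.zetaJ]
        rw [← Submodule.Quotient.mk_add]
        congr 1
        refine Subtype.ext ?_
        show ∏ k, ((Function.update (fun k => lift (l k)) i (lift a + lift b) k : ↥J) : B) =
          ∏ k, ((Function.update (fun k => lift (l k)) i (lift a) k : ↥J) : B) +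
            ∏ k, ((Function.update (fun k => lift (l k)) i (lift b) k : ↥J) : B)
        rw [hprod, hprod, hprod, Submodule.coe_add, add_mul]
      map_update_smul' := by
        intro hd l i c a
        obtain rfl : hd = Classical.decEq ι := Subsingleton.elim _ _
        rw [hup l i (c • a) (c • lift a) (by rw [map_smul, hlift]), hup l i a (lift a) (hlift a)]
        simp only [PP16.zetaJ]
        rw [← Submodule.Quotient.mk_smul]
        congr 1
        refine Subtype.ext ?_
        show ∏ k, ((Function.update (fun k => lift (l k)) i (c • lift a) k : ↥J) : B) =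
          c * ∏ k, ((Function.update (fun k => lift (l k)) i (lift a) k : ↥J) : B)
        rw [hprod, hprod, SetLike.val_smul, smul_eq_mul, mul_assoc] }
  have hm : ∀ x : ι → ↥J, m (fun i => J.toCotangent (x i)) = PP16.zetaJ B J x := fun x =>
    hwd _ _ fun i => hlift _
  let φ := symLift m fun e l => by
    show PP16.zetaJ B J _ = PP16.zetaJ B J _
    simp only [PP16.zetaJ]
    congr 1
    exact Subtype.ext (Equiv.prod_comp e fun i => ((lift (l i) : ↥J) : B))
  have hφ : ∀ x : ι → ↥J, φ (SymmetricPower.tprod B (fun i => J.toCotangent (x i))) = PP16.zetaJ B J x :=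
    fun x => (symLift_tprod _ _ _).trans (hm x)
  refine ⟨φ, hφ, fun g => ?_⟩
  obtain ⟨⟨y, hy⟩, rfl⟩ := Submodule.Quotient.mk_surjective _ g
  have hspan : J ^ Fintype.card ι =
      Submodule.span B (Set.range fun x : ι → ↥J => ∏ i, (x i : B)) := by
    refine le_antisymm ?_ (Submodule.span_le.2 ?_)
    · conv_lhs => rw [← Ideal.span_eq J]
      rw [Ideal.span, Submodule.span_pow]
      refine Submodule.span_mono ?_
      intro a ha
      obtain ⟨f, hf⟩ := Set.mem_pow.1 ha
      refine ⟨fun i => f (Fintype.equivFin ι i), ?_⟩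
      show ∏ i, ((f (Fintype.equivFin ι i) : ↑(J : Set B)) : B) = a
      rw [Equiv.prod_comp (Fintype.equivFin ι) (fun k => (f k : B)), ← hf, List.prod_ofFn]
    · rintro _ ⟨x, rfl⟩
      simpa using Ideal.prod_mem_prod (ι := ι) (s := Finset.univ) (I := fun _ => J)
        (x := fun i => (x i : B)) fun i _ => (x i).2
  have key : ∀ w ∈ Submodule.span B (Set.range fun x : ι → ↥J => ∏ i, (x i : B)),
      ∃ (hw : w ∈ J ^ Fintype.card ι) (z : SymmetricPower B ι J.Cotangent),
        φ z = Submodule.Quotient.mk ⟨w, hw⟩ := by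
    intro w hw
    induction hw using Submodule.span_induction with
    | mem v hv =>
      obtain ⟨x, rfl⟩ := hv
      exact ⟨hspan ▸ Submodule.subset_span ⟨x, rfl⟩, _, hφ x⟩
    | zero => exact ⟨zero_mem _, 0, by rw [map_zero]; rfl⟩
    | add v v' _ _ hv hv' =>
      obtain ⟨h1, z, hz⟩ := hv
      obtain ⟨h2, z', hz'⟩ := hv'
      exact ⟨add_mem h1 h2, z + z', by rw [map_add, hz, hz']; rfl⟩
    | smul c v _ hv =>
      obtain ⟨h1, z, hz⟩ := hv
      exact ⟨Submodule.smul_mem _ c h1, c • z, by rw [map_smul, hz]; rfl⟩
  obtain ⟨hy2, z, hz⟩ := key y (hspan ▸ hy)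
  exact ⟨z, hz⟩

/-- Any map with the prescribed values is the graded map. -/
theorem phi_unique {φ φ' : SymmetricPower B ι J.Cotangent →ₗ[B] PP16.grJ B J (Fintype.card ι)}
    (h : ∀ x : ι → ↥J, φ (SymmetricPower.tprod B (fun i => J.toCotangent (x i))) = PP16.zetaJ B J x)
    (h' : ∀ x : ι → ↥J, φ' (SymmetricPower.tprod B (fun i => J.toCotangent (x i))) = PP16.zetaJ B J x) :
    φ = φ' := sym_ext fun l => by
  choose x hx using fun i => J.toCotangent_surjective (l i)
  rw [show l = fun i => J.toCotangent (x i) from funext fun i => (hx i).symm, h, h']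

variable {σ : Type u} (r : (σ →₀ B ⧸ J) →ₗ[B ⧸ J] J.Cotangent) (s : J.Cotangent →ₗ[B ⧸ J] σ →₀ B ⧸ J)

variable (ι) in
/-- The polynomial of degree `n` attached to a symmetric tensor. -/
def toPoly : SymmetricPower B ι J.Cotangent →ₗ[B] MvPolynomial σ (B ⧸ J) :=
  symLift (((prodForm ι).restrictScalars B).compLinearMap fun _ => s.restrictScalars B) fun e x => by
    simp only [MultilinearMap.compLinearMap_apply, MultilinearMap.coe_restrictScalars, prodForm_apply]
    exact Equiv.prod_comp e fun i => linForm (s (x i))

theorem toPoly_tprod (x : ι → J.Cotangent) :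
    toPoly J ι s (SymmetricPower.tprod B x) = prodForm ι fun i => s (x i) :=
  symLift_tprod _ _ x

/-- The substitution onto the polynomials coming from `J/J²`. -/
def proj : MvPolynomial σ (B ⧸ J) →ₐ[B ⧸ J] MvPolynomial σ (B ⧸ J) :=
  aeval fun j => linForm (s (r (Finsupp.single j 1)))

theorem proj_linForm (v : σ →₀ B ⧸ J) : proj J r s (linForm v) = linForm (s (r v)) := by
  induction v using Finsupp.induction_linear with
  | zero => simp
  | add f g hf hg => simp only [map_add, hf, hg]
  | single j c =>
    have h1 : linForm (Finsupp.single j c) = c • (X j : MvPolynomial σ (B ⧸ J)) := by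
      rw [linForm, Finsupp.linearCombination_single]
    rw [h1, map_smul, proj, aeval_X, ← Finsupp.smul_single_one j c, map_smul, map_smul, map_smul]

theorem proj_proj (hrs : ∀ x, r (s x) = x) (f : MvPolynomial σ (B ⧸ J)) :
    proj J r s (proj J r s f) = proj J r s f := by
  refine AlgHom.congr_fun (MvPolynomial.algHom_ext (f := (proj J r s).comp (proj J r s))
    (g := proj J r s) fun j => ?_) f
  rw [AlgHom.comp_apply, proj, aeval_X]
  exact (proj_linForm J r s _).trans (by rw [hrs])

theorem proj_mem_pow {n : ℕ} {f : MvPolynomial σ (B ⧸ J)} (hf : f ∈ idealOfVars σ (B ⧸ J) ^ n) :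
    proj J r s f ∈ idealOfVars σ (B ⧸ J) ^ n := by
  have hle : (idealOfVars σ (B ⧸ J)).map (proj J r s) ≤ idealOfVars σ (B ⧸ J) := by
    rw [idealOfVars, Ideal.map_span, Ideal.span_le]
    rintro _ ⟨_, ⟨j, rfl⟩, rfl⟩
    rw [proj, aeval_X]
    exact linForm_mem_idealOfVars _
  have := Ideal.mem_map_of_mem (proj J r s) hf
  rw [Ideal.map_pow] at this
  exact Ideal.pow_right_mono hle n this

theorem prodForm_mem_pow (v : ι → σ →₀ B ⧸ J) :
    prodForm ι v ∈ idealOfVars σ (B ⧸ J) ^ Fintype.card ι := by
  rw [prodForm_apply]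
  simpa using Ideal.prod_mem_prod (ι := ι) (s := Finset.univ)
    (I := fun _ => idealOfVars σ (B ⧸ J)) (x := fun i => linForm (v i))
    fun i _ => linForm_mem_idealOfVars _

theorem toPoly_mem_pow (z : SymmetricPower B ι J.Cotangent) :
    toPoly J ι s z ∈ idealOfVars σ (B ⧸ J) ^ Fintype.card ι := by
  have hz : z ∈ Submodule.span B (Set.range (SymmetricPower.tprod B (ι := ι) (M := J.Cotangent))) :=
    (SymmetricPower.span_tprod_eq_top B ι J.Cotangent) ▸ Submodule.mem_top
  induction hz using Submodule.span_induction with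
  | mem y hy => obtain ⟨x, rfl⟩ := hy; rw [toPoly_tprod]; exact prodForm_mem_pow J _
  | zero => rw [map_zero]; exact zero_mem _
  | add y w _ _ hy hw => rw [map_add]; exact add_mem hy hw
  | smul c y _ hy => rw [map_smul]; exact Submodule.smul_of_tower_mem _ c hy

variable (ι) [Nonempty ι]

/-- A monomial of degree `n` goes to the symmetric product of the images of the basis. -/
def ofPoly : MvPolynomial σ (B ⧸ J) →ₗ[B] SymmetricPower B ι J.Cotangent :=
  letI := (torsion J (ι := ι)).module
  haveI : IsScalarTower B (B ⧸ J) (SymmetricPower B ι J.Cotangent) :=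
    IsScalarTower.of_algebraMap_smul fun _ _ => rfl
  haveI := Classical.dec
  ((basisMonomials σ (B ⧸ J)).constr (B ⧸ J) fun p =>
    if h : p.degree = Fintype.card ι then
      SymmetricPower.tprod B fun i => r (Finsupp.single ((exists_enum p h).choose i) 1)
    else 0).restrictScalars B

variable {ι}

theorem ofPoly_monomial (p : σ →₀ ℕ) (b : B) : ofPoly J ι r (monomial p (Ideal.Quotient.mk J b)) =
    haveI := Classical.dec
    b • (if h : p.degree = Fintype.card ι then
      SymmetricPower.tprod B fun i => r (Finsupp.single ((exists_enum p h).choose i) 1)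
    else 0) := by
  classical
  letI := (torsion J (ι := ι)).module
  haveI : IsScalarTower B (B ⧸ J) (SymmetricPower B ι J.Cotangent) :=
    IsScalarTower.of_algebraMap_smul fun _ _ => rfl
  have h1 : monomial p (Ideal.Quotient.mk J b) = b • basisMonomials σ (B ⧸ J) p := by
    rw [coe_basisMonomials, ← algebraMap_smul (B ⧸ J) b, Ideal.Quotient.algebraMap_eq, smul_monomial,
      smul_eq_mul, mul_one]
  rw [h1, map_smul, ofPoly, LinearMap.restrictScalars_apply, Module.Basis.constr_basis]

theorem ofPoly_eq_zero {f : MvPolynomial σ (B ⧸ J)}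
    (hf : f ∈ idealOfVars σ (B ⧸ J) ^ (Fintype.card ι + 1)) : ofPoly J ι r f = 0 := by
  classical
  rw [f.as_sum, map_sum]
  refine Finset.sum_eq_zero fun p hp => ?_
  obtain ⟨b, hb⟩ := Ideal.Quotient.mk_surjective (f.coeff p)
  rw [← hb, ofPoly_monomial, dif_neg, smul_zero]
  intro hdeg
  exact mem_support_iff.1 hp ((mem_pow_idealOfVars_iff' _ _).1 hf p (by omega))

theorem ofPoly_prodForm (v : ι → σ →₀ B ⧸ J) :
    ofPoly J ι r (prodForm ι v) = SymmetricPower.tprod B fun i => r (v i) := by
  classical
  letI := (torsion J (ι := ι)).module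
  haveI : IsScalarTower B (B ⧸ J) (SymmetricPower B ι J.Cotangent) :=
    IsScalarTower.of_algebraMap_smul fun _ _ => rfl
  let T : MultilinearMap (B ⧸ J) (fun _ : ι => σ →₀ B ⧸ J) (SymmetricPower B ι J.Cotangent) :=
    { toFun := fun v => SymmetricPower.tprod B fun i => r (v i)
      map_update_add' := by
        intro hd v i a b
        have e : ∀ c : σ →₀ B ⧸ J, (fun k => r (Function.update v i c k)) =
            Function.update (fun k => r (v k)) i (r c) := fun c => funext fun k =>
          (Function.apply_update (fun _ => r) v i c k)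
        rw [e, e, e, map_add, MultilinearMap.map_update_add]
      map_update_smul' := by
        intro hd v i c a
        obtain ⟨b, rfl⟩ := Ideal.Quotient.mk_surjective c
        have e : ∀ c : σ →₀ B ⧸ J, (fun k => r (Function.update v i c k)) =
            Function.update (fun k => r (v k)) i (r c) := fun c => funext fun k =>
          (Function.apply_update (fun _ => r) v i c k)
        rw [e, e, map_smul, show Ideal.Quotient.mk J b • r a = b • r a from
          algebraMap_smul (B ⧸ J) b (r a), MultilinearMap.map_update_smul]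
        rfl }
  let O : MvPolynomial σ (B ⧸ J) →ₗ[B ⧸ J] SymmetricPower B ι J.Cotangent :=
    { toFun := ofPoly J ι r
      map_add' := map_add _
      map_smul' := fun c f => by
        obtain ⟨b, rfl⟩ := Ideal.Quotient.mk_surjective c
        rw [RingHom.id_apply, show Ideal.Quotient.mk J b • f = b • f from algebraMap_smul (B ⧸ J) b f,
          map_smul]
        rfl }
  suffices h : O.compMultilinearMap (prodForm ι) = T from DFunLike.congr_fun h v
  refine Module.Basis.ext_multilinear (fun _ => Finsupp.basisSingleOne) fun e => ?_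
  simp only [LinearMap.compMultilinearMap_apply, Finsupp.coe_basisSingleOne, prodForm_single]
  show ofPoly J ι r (monomial (∑ i, Finsupp.single (e i) 1) 1) =
    SymmetricPower.tprod B fun i => r (Finsupp.single (e i) 1)
  conv_lhs => rw [← map_one (Ideal.Quotient.mk J), ofPoly_monomial, one_smul, dif_pos (by simp)]
  obtain ⟨π, hπ⟩ := exists_perm_of_sum_single_eq (ι := ι)
    (exists_enum (∑ i, Finsupp.single (e i) 1) (ι := ι) (by simp)).choose_spec
  rw [← SymmetricPower.tprod_equiv π fun i => r (Finsupp.single (e i) 1)]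
  simp only [hπ]

theorem ofPoly_toPoly (hrs : ∀ x, r (s x) = x) (z : SymmetricPower B ι J.Cotangent) :
    ofPoly J ι r (toPoly J ι s z) = z := by
  refine LinearMap.congr_fun (sym_ext (f := ofPoly J ι r ∘ₗ toPoly J ι s) (g := LinearMap.id)
    fun x => ?_) z
  rw [LinearMap.comp_apply, toPoly_tprod, ofPoly_prodForm, LinearMap.id_apply]
  simp [hrs]

theorem proj_sub_toPoly_ofPoly {f : MvPolynomial σ (B ⧸ J)}
    (hf : f ∈ idealOfVars σ (B ⧸ J) ^ Fintype.card ι) :
    proj J r s f - toPoly J ι s (ofPoly J ι r f) ∈ idealOfVars σ (B ⧸ J) ^ (Fintype.card ι + 1) := by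
  classical
  rw [f.as_sum, map_sum, map_sum, map_sum, ← Finset.sum_sub_distrib]
  refine Ideal.sum_mem _ fun p hp => ?_
  have hdeg : Fintype.card ι ≤ p.degree := by
    by_contra hlt
    exact mem_support_iff.1 hp ((mem_pow_idealOfVars_iff' _ _).1 hf p (by omega))
  obtain ⟨b, hb⟩ := Ideal.Quotient.mk_surjective (f.coeff p)
  rw [← hb, ofPoly_monomial]
  rcases eq_or_lt_of_le hdeg with hd | hd
  · rw [dif_pos hd.symm, map_smul, toPoly_tprod]
    have h1 : monomial p (Ideal.Quotient.mk J b) = b • prodForm ι
        (fun i => Finsupp.single ((exists_enum p hd.symm).choose i) (1 : B ⧸ J)) := by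
      rw [prodForm_single, (exists_enum p hd.symm).choose_spec, ← algebraMap_smul (B ⧸ J) b,
        Ideal.Quotient.algebraMap_eq, smul_monomial, smul_eq_mul, mul_one]
    rw [h1, AlgHom.map_smul_of_tower, prodForm_apply, map_prod, prodForm_apply]
    simp only [proj_linForm, sub_self]
    exact zero_mem _
  · rw [dif_neg (by omega), smul_zero, map_zero, sub_zero]
    refine proj_mem_pow J r s ?_
    rcases eq_or_ne (Ideal.Quotient.mk J b) 0 with h0 | h0
    · rw [h0, monomial_zero]; exact zero_mem _
    · exact (monomial_mem_pow_idealOfVars_iff _ _ h0).2 hd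

end GrothLib.SymGr

end
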